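import Cfsg.Agent.H763.Ccp.B
import Cfsg.Agent.H457.Odd.RowB
import Cfsg.Agent.H988.Car.Mov

/-!
# S3852: the row `B` (helper988)
-/

set_option autoImplicit false

namespace Cfsg.Agent.H988.Car

open Subgroup Cfsg
open Cfsg.Agent.Solvable.Carter Cfsg.Agent.H18.Carter Cfsg.Agent.H381.Car
open Cfsg.Agent.H497.Stein

universe u

theorem row_B {G : Type u} [Group G] [Finite G] {S : Subgroup G} [S.Normal] (hF : Fpf.{u}) (c : Ctx G S)
    (h : Spor.IsoB ↥S) : TwoS S := by
  have : Fact (Nat.Prime 5) := ⟨Nat.prime_five⟩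
  have hev := Cfsg.Agent.H457.Odd.RowB.b_five h
  have D := BpSpor.Row.dat_b h
  have hpair := H763.Ccp.B.moved_pair h
  have h3 : Moved 3 ↥S := H763.Ccp.B.moved_of h Nat.prime_three (by norm_num) fun x v hx hv hxv =>
    H763.Ccp.B.mv_three hx hv hxv
  have h7 : Moved 7 ↥S := H763.Ccp.B.moved_of h (by norm_num) (by norm_num) fun x v hx hv hxv =>
    H763.Ccp.B.mv_seven hx hv hxv
  obtain ⟨e⟩ := h
  refine two_of_pair hF c (r := 5) ?_ (by norm_num) hev ?_ hpair
  · exact index_of_inner c (inner_of_equiv e CpAut.TwoInner.inner_b)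
  · refine moved_of_dat c.simple D.card (l := [(2, 41), (3, 13), (5, 6), (7, 2), (11, 1), (13, 1), (17, 1),
        (19, 1), (23, 1), (31, 1), (47, 1)])
      (by decide +kernel) (by norm_num) (fun p => p ≠ 5) fun x hx hx2 hx3 hx4 => ?_
    simp only [List.mem_cons, List.not_mem_nil, or_false] at hx
    rcases hx with rfl | rfl | rfl | rfl | rfl | rfl | rfl | rfl | rfl | rfl | rfl
    · exact absurd rfl hx3
    · exact h3
    · exact absurd rfl hx4
    · exact h7
    all_goals exact absurd hx2 (by norm_num)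

end Cfsg.Agent.H988.Car
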