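import Cfsg.Agent.H763.Ccp.B
import Cfsg.Agent.H768.Pron.SelfM
import Cfsg.Agent.CpAut.TwoAll
import Cfsg.Agent.H988.Car.RowB
import Cfsg.Agent.H988.Car.EvenTool

/-!
# S3852: the Monster, `|K ∩ S|` even (helper988)
-/

set_option autoImplicit false
set_option maxRecDepth 100000
set_option linter.unusedSectionVars false

namespace Cfsg.Agent.H988.Car

open Subgroup Cfsg
open Cfsg.Agent.Solvable.Carter Cfsg.Agent.H18.Carter Cfsg.Agent.H381.Car
open Cfsg.Agent.H497.Stein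
open Cfsg.Agent.MonsterX Cfsg.Agent.MonsterX.InstData Cfsg.Agent.MonsterX.MainPack Cfsg.Agent.MonsterU
open Cfsg.Agent.MonsterP Cfsg.Agent.MonsterN Cfsg.Agent.PreUniqB
open Cfsg.Agent.CpAutBFive

universe u v

theorem not_dvd_of_two {T : Type v} [Group T] [Finite T] {D : Subgroup T} (h : IsPGroup 2 ↥D) {r : ℕ} (hr : r.Prime)
    (hr2 : r ≠ 2) : ¬ r ∣ Nat.card ↥D := by
  have : Fact (Nat.Prime 2) := ⟨Nat.prime_two⟩
  intro hd
  obtain ⟨n, hn⟩ := IsPGroup.iff_card.1 h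
  rw [hn] at hd
  exact hr2 ((Nat.prime_dvd_prime_iff_eq hr Nat.prime_two).1 (hr.dvd_of_dvd_pow hd))

/-- the centraliser of `e t` -/
noncomputable def centEquiv {T : Type u} [Group T] {T' : Type v} [Group T'] (e : T ≃* T') {t : T} {t' : T'} (h : e t = t') :
    ↥(centralizer ({t} : Set T)) ≃* ↥(centralizer ({t'} : Set T')) :=
  (e.subgroupMap (centralizer ({t} : Set T))).trans (MulEquiv.subgroupCongr (by rw [← h]; exact map_cent e t))

theorem rowAt_B (hF : Fpf.{u}) {r : ℕ} (hr : r.Prime) (hr2 : r ≠ 2) : RowAt.{u} r Spor.BabyMonster := by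
  intro G _ _ S _ c ⟨e⟩ K hK
  exact not_dvd_of_two (row_B hF c ⟨e⟩ K hK) hr hr2

theorem rf_B (hF : Fpf.{u}) {r : ℕ} (hr : r.Prime) (hr2 : r ≠ 2) : RF.{u} r Spor.BabyMonster := by
  have h := Cfsg.Agent.S1704.result
  have hs : IsSimpleGroup Spor.BabyMonster := h.1
  have hfin : Finite Spor.BabyMonster := Nat.finite_of_card_ne_zero (by rw [h.2]; norm_num)
  refine RF.of_row hr ?_ (rowAt_B hF hr hr2)
  exact not_comm_of_card hs (by rw [h.2]; norm_num)

/-- **the centralisers of the 2A-involutions** -/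
theorem rf_two (hF : Fpf.{u}) {r : ℕ} (hr : r.Prime) (hr2 : r ≠ 2) {t : ↥InstData.M.G} (ht : IsConj RowB.t t) :
    RF.{u} r ↥(centralizer ({t} : Set ↥InstData.M.G)) := by
  obtain ⟨t0, ht0, h2, ⟨e⟩⟩ := H763.Ccp.B.exists_cover (L := Spor.BabyMonster) ⟨MulEquiv.refl _⟩
  obtain ⟨g, hg⟩ := isConj_iff.1 (ht0.symm.trans ht)
  refine RF.congr (centEquiv (MulAut.conj g) (t := t0) (t' := t) hg) ?_
  have hch : (center ↥(centralizer ({t0} : Set ↥InstData.M.G))).Characteristic := inferInstance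
  refine RF.ext hr (center ↥(centralizer ({t0} : Set ↥InstData.M.G))) (RF.of_not_dvd ?_) (RF.congr e.symm (rf_B hF hr hr2))
  rw [h2]
  exact fun h => hr2 ((Nat.prime_dvd_prime_iff_eq hr Nat.prime_two).1 h)

theorem index_z : ¬ 2 ∣ (centralizer ({KDone.K.z} : Set ↥InstData.M.G)).index := by
  have hfin : Finite ↥InstData.M.G := MFive.Row.finite_model
  have h := LThreeMB.KChart.chart KDone.lft MFive.Row.hc
  refine index_of_card (m := 2 ^ 25 * 4157776806543360000) (k := 808017424794512875886459904961710757005754368000000000 /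
    (2 ^ 25 * 4157776806543360000)) ?_ (Cfsg.Agent.MonsterU.AmalElts.card_centralizer h) (by decide +kernel)
  rw [Cfsg.Agent.MonsterP.EquivOf.isM_model.2]
  norm_num

/-- the involutions -/
theorem inv_cases {t : ↥InstData.M.G} (ht : orderOf t = 2) : IsConj KDone.K.z t ∨ IsConj RowB.t t := by
  have ht1 : t ≠ 1 := by
    rintro rfl
    rw [orderOf_one] at ht
    norm_num at ht
  rcases MFive.Row.two t (by rw [← pow_two, ← ht, pow_orderOf_eq_one]) ht1 with ⟨g, hg⟩ | ⟨g, hg⟩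
  · exact Or.inl (isConj_iff.2 ⟨g, hg⟩)
  · exact Or.inr (isConj_iff.2 ⟨g, hg⟩)

variable {G : Type u} [Group G] [Finite G] {S : Subgroup G} [S.Normal]

theorem exists_model (h : Spor.IsoM ↥S) : Nonempty (↥S ≃* ↥InstData.M.G) := by
  obtain ⟨f⟩ := id h
  obtain ⟨f'⟩ := Cfsg.Agent.MonsterP.Equiv.equiv
  exact ⟨f.trans f'⟩

theorem index_m (c : Ctx G S) (h : Spor.IsoM ↥S) : S.index ∣ 2 := by
  obtain ⟨e⟩ := h
  exact index_of_inner c (inner_of_equiv e CpAut.TwoInner.inner_m)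

/-- **`|K ∩ S|` even** -/
theorem not_dvd_even (hF : Fpf.{u}) (c : Ctx G S) (h : Spor.IsoM ↥S) {K : Subgroup G} (hK : IsCarter K)
    (h2 : 2 ∣ Nat.card (K ⊓ S : Subgroup G)) {r : ℕ} (hr : r.Prime) (hr2 : r ≠ 2) :
    ¬ r ∣ Nat.card (K ⊓ S : Subgroup G) := by
  have : Fact (Nat.Prime 2) := ⟨Nat.prime_two⟩
  obtain ⟨t, htS, htK, ht, hct⟩ := exists_central (S := S) hK.1 h2
  obtain ⟨e⟩ := exists_model h
  have ho : orderOf (⟨t, htS⟩ : ↥S) = 2 := by rw [Subgroup.orderOf_mk, ht]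
  have ht1 : (⟨t, htS⟩ : ↥S) ≠ 1 := by
    intro h1
    rw [h1, orderOf_one] at ho
    norm_num at ho
  rcases inv_cases (t := e ⟨t, htS⟩) (by rw [MulEquiv.orderOf_eq, ho]) with h1 | h1
  · have h3 : ¬ 2 ∣ (centralizer ({(⟨t, htS⟩ : ↥S)} : Set ↥S)).index := by
      obtain ⟨g, hg⟩ := isConj_iff.1 h1
      rw [index_cent e, ← hg, index_cent_conj]
      exact index_z
    have h4 : IsPGroup 2 K := isPGroup_of_central c (index_m c h) (selfN_eq (H768.Pron.selfN_m h)) hK (t := ⟨t, htS⟩)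
      ht1 hct h3
    exact not_dvd_of_two (h4.to_le (inf_le_left : K ⊓ S ≤ K)) hr hr2
  · refine not_dvd_of_RF c hK (t := ⟨t, htS⟩) ht1 hct ?_
    exact RF.congr (centEquiv e (t := ⟨t, htS⟩) rfl).symm (rf_two hF hr hr2 h1)

end Cfsg.Agent.H988.Car
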