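import Cfsg.Agent.H988.Car.Mov

/-!
# S3852: centralisers of order `2 * odd` (helper988)

`false_of_two` : `K` a Carter subgroup of odd order cannot centralise an element `y` with `|C(y)|` even, not divisible by 4.
-/

set_option autoImplicit false
set_option linter.unusedSectionVars false

namespace Cfsg.Agent.H988.Car

open Subgroup Cfsg
open Cfsg.Agent.Solvable.Carter Cfsg.Agent.H18.Carter Cfsg.Agent.H381.Car
open Cfsg.Agent.H497.Stein

universe u v

/-- a group of order `2 * odd` has a normal subgroup of index `2` -/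
theorem exists_index_two {Y : Type u} [Group Y] [Finite Y] (h2 : 2 ∣ Nat.card Y) (h4 : ¬ 4 ∣ Nat.card Y) :
    ∃ N : Subgroup Y, N.Normal ∧ N.index = 2 := by
  have hp : Fact (Nat.Prime 2) := ⟨Nat.prime_two⟩
  obtain ⟨P⟩ : Nonempty (Sylow 2 Y) := inferInstance
  obtain ⟨n, hn⟩ := IsPGroup.iff_card.1 P.2
  have hn1 : n ≤ 1 := by
    by_contra h
    apply h4
    have h1 : (2 : ℕ) ^ 2 ∣ 2 ^ n := pow_dvd_pow 2 (by omega)
    exact (show (4 : ℕ) = 2 ^ 2 by norm_num) ▸ (h1.trans (hn ▸ card_subgroup_dvd_card (P : Subgroup Y)))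
  have hn0 : n ≠ 0 := by
    rintro rfl
    have h1 : 2 ∣ Nat.card ↥(P : Subgroup Y) := by
      have h3 := (P : Subgroup Y).card_mul_index
      rw [← h3] at h2
      rcases hp.out.dvd_mul.1 h2 with h | h
      · exact h
      · exact absurd h P.not_dvd_index
    rw [hn] at h1
    norm_num at h1
  have hc : Nat.card ↥(P : Subgroup Y) = 2 := by
    rw [hn]
    have : n = 1 := by omega
    rw [this, pow_one]
  have hmem : ∀ a ∈ (P : Subgroup Y), ∀ b ∈ (P : Subgroup Y), a ≠ 1 → b ≠ 1 → a = b := by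
    intro a ha b hb ha1 hb1
    obtain ⟨x, y, hxy, hu⟩ := Nat.card_eq_two_iff.1 hc
    have h1 : ∀ z : ↥(P : Subgroup Y), z = x ∨ z = y := by
      intro z
      have : z ∈ ({x, y} : Set ↥(P : Subgroup Y)) := by rw [hu]; trivial
      simpa using this
    have ha' : (⟨a, ha⟩ : ↥(P : Subgroup Y)) ≠ 1 := fun h => ha1 (congrArg Subtype.val h)
    have hb' : (⟨b, hb⟩ : ↥(P : Subgroup Y)) ≠ 1 := fun h => hb1 (congrArg Subtype.val h)
    have : (⟨a, ha⟩ : ↥(P : Subgroup Y)) = ⟨b, hb⟩ := by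
      rcases h1 1 with h | h <;> rcases h1 ⟨a, ha⟩ with h3 | h3 <;> rcases h1 ⟨b, hb⟩ with h5 | h5
      · rw [h3, h5]
      · exact absurd (h3.trans h.symm) ha'
      · exact absurd (h5.trans h.symm) hb'
      · rw [h3, h5]
      · rw [h3, h5]
      · exact absurd (h5.trans h.symm) hb'
      · exact absurd (h3.trans h.symm) ha'
      · rw [h3, h5]
    exact congrArg Subtype.val this
  have hNC : normalizer ((P : Subgroup Y) : Set Y) ≤ centralizer ((P : Subgroup Y) : Set Y) := by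
    intro g hg a ha
    by_cases ha1 : a = 1
    · rw [ha1, one_mul, mul_one]
    · have h1 : g * a * g⁻¹ ∈ (P : Subgroup Y) := (mem_normalizer_iff.1 hg a).1 ha
      have h3 : g * a * g⁻¹ ≠ 1 := fun h => ha1 (conj_eq_one_iff.1 h)
      have h5 := hmem _ h1 a ha h3 ha1
      calc a * g = (g * a * g⁻¹) * g := by rw [h5]
        _ = g * a := by group
  have hcomp := MonoidHom.ker_transferSylow_isComplement' P hNC
  refine ⟨(MonoidHom.transferSylow P hNC).ker, inferInstance, ?_⟩
  rw [hcomp.symm.index_eq_card]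
  exact hc

variable {G : Type u} [Group G] [Finite G] {S : Subgroup G} [S.Normal]

/-- see the header -/
theorem false_of_two (c : Ctx G S) {K : Subgroup G} (hK : IsCarter K) (hodd : ¬ 2 ∣ Nat.card K) {y : G} (hy : y ≠ 1)
    (hKy : K ≤ centralizer ({y} : Set G)) (h2 : 2 ∣ Nat.card ↥(centralizer ({y} : Set G)))
    (h4 : ¬ 4 ∣ Nat.card ↥(centralizer ({y} : Set G))) : False := by
  have hp : Fact (Nat.Prime 2) := ⟨Nat.prime_two⟩
  set Y := centralizer ({y} : Set G) with hY
  have hYt : Y ≠ ⊤ := c.cent_ne_top hy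
  have hs : Sm ↥Y := fun B _ _ hB => c.min B (hB.trans (Cfsg.Agent.Lib.SolvableNormalP.card_lt_of_ne_top hYt))
  obtain ⟨N, hN, hi⟩ := exists_index_two h2 h4
  have h1 := isCarter_mk hs (hK.subgroupOf hKy) N
  have hc : Nat.card (↥Y ⧸ N) = 2 := by rw [← Subgroup.index_eq_card, hi]
  have hnil : Group.IsNilpotent (↥Y ⧸ N) := by
    have : IsPGroup 2 (↥Y ⧸ N) := IsPGroup.of_card (n := 1) (by rw [hc, pow_one])
    exact this.isNilpotent
  have h3 := h1.eq_top
  apply hodd
  have h5 : Nat.card ↥((K.subgroupOf Y).map (QuotientGroup.mk' N)) = 2 := by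
    rw [h3, Subgroup.card_top, hc]
  have h6 : Nat.card ↥((K.subgroupOf Y).map (QuotientGroup.mk' N)) ∣ Nat.card ↥(K.subgroupOf Y) :=
    Subgroup.card_map_dvd _ _
  rw [h5, Nat.card_congr (subgroupOfEquivOfLe hKy).toEquiv] at h6
  exact h6

end Cfsg.Agent.H988.Car
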