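import Cfsg.Agent.H230.Ccp.Co3
import Cfsg.Agent.H497.Stein.Mat
import Cfsg.Agent.H769.RowCo3
import Cfsg.Agent.H711.EvA
import Cfsg.Agent.KFacts.Co3.Out
import Cfsg.Agent.KFacts.Co3.Syl
import Cfsg.Agent.H988.Car.EvenTool

/-!
# S3852: the row `Co3` (helper988)
-/

set_option autoImplicit false

namespace Cfsg.Agent.H988.Car

open Subgroup Cfsg
open Cfsg.Agent.Solvable.Carter Cfsg.Agent.H18.Carter Cfsg.Agent.H381.Car
open Cfsg.Agent.H497.Stein
open Cfsg.Agent.SporRec.Co3.Chain (G3)
open Cfsg.Agent.SporRec.Co3.Ident (Z)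
open Cfsg.Agent.CpAutCo3.MTw (ww cls ee wC wC_sq wC_comm)

universe u

/-- elements of order three commuting with the involution `ww` -/
theorem movedAt_ww {y : G3} (hy : orderOf y = 3) (hyw : y * ww = ww * y) : MovedAt y := by
  have hf : Finite Spor.M12 := Cfsg.Agent.CpAutCo3.MTw.finM
  have hm : Moved 3 Spor.M12 := moved_of_real Nat.prime_three (by norm_num) fun y hy => real_m12 hy
  refine MovedAt.of_equiv ee.symm ?_
  refine movedAt_cent (t := Cfsg.Agent.SigZero.CoThreeB.wK) Cfsg.Agent.SigZero.CoThreeB.proj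
    Cfsg.Agent.SigZero.CoThreeB.proj_surj (fun c hc => ?_) Nat.prime_three (by norm_num) hm
    (by rw [MulEquiv.orderOf_eq, hy]) ?_
  · rcases Cfsg.Agent.CpAutCo3.MTw.ker_cases hc with rfl | rfl
    · exact ⟨fun g => by rw [mul_one, one_mul], one_pow 2⟩
    · exact ⟨fun g => wC_comm g, by rw [pow_two, wC_sq]⟩
  · apply ee.injective
    rw [map_mul, map_mul, ee.apply_symm_apply]
    exact hyw

theorem row_Co3 {G : Type u} [Group G] [Finite G] {S : Subgroup G} [S.Normal] (hF : Fpf.{u}) (c : Ctx G S)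
    (h : Spor.IsoCo3 ↥S) : TwoS S := by
  have : Fact (Nat.Prime 3) := ⟨Nat.prime_three⟩
  have := Cfsg.Agent.H345.IRowCo.finG3
  have hself := Cfsg.Agent.H769.RowCo3.self h
  obtain ⟨e₀⟩ := h
  let e : ↥S ≃* G3 := e₀.trans Cfsg.Agent.SporRec.Co3.Model.equivCo3.symm
  have hcard : Nat.card ↥S = 495766656000 := by
    rw [Nat.card_congr e.toEquiv]
    exact Cfsg.Agent.SporRec.Co3.Chain.isCo3_G3.2
  refine two_of_even hF c (r := 3) ?_ (by norm_num) (selfN_eq hself) ?_ ?_ ?_
  · refine index_of_inner c (inner_of_equiv e fun α => ?_)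
    obtain ⟨g, hg⟩ := Cfsg.Agent.KFacts.Co3.Out.aut α
    exact ⟨g, MulEquiv.ext fun y => hg y⟩
  · have : Finite ↥Spor.Co3 := Finite.of_equiv ↥S e₀.toEquiv
    exact (Cfsg.Agent.H711.EvA.evIn_co3.congr e₀.symm)
  · refine moved_of_dat c.simple hcard (l := [(2, 10), (3, 7), (5, 3), (7, 1), (11, 1), (23, 1)])
      (by decide +kernel) (by norm_num) (fun p => p ≠ 3) fun x hx hx2 hx3 hx4 => ?_
    simp only [List.mem_cons, List.not_mem_nil, or_false] at hx
    rcases hx with rfl | rfl | rfl | rfl | rfl | rfl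
    · exact absurd rfl hx3
    · exact absurd rfl hx4
    · exact H230.Ccp.Co3.moved_five.congr e₀
    all_goals exact absurd hx2 (by norm_num)
  · intro t y ht hy hty
    have ht2 : e t * e t = 1 := by rw [← map_mul, ← pow_two, ← ht, pow_orderOf_eq_one, map_one]
    have ht1 : e t ≠ 1 := by
      intro h1
      rw [(map_eq_one_iff e e.injective).1 h1, orderOf_one] at ht
      norm_num at ht
    rcases cls ht2 ht1 with ⟨g, hg⟩ | ⟨g, hg⟩
    · right
      rw [index_cent e t, ← hg, index_cent_conj]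
      obtain ⟨P, -, h2, -⟩ := Cfsg.Agent.KFacts.Co3.Syl.syl
      exact index_of_sylow P h2
    · left
      refine MovedAt.of_equiv e ?_
      have h1 : MovedAt (g⁻¹ * e y * g) := by
        refine movedAt_ww ?_ ?_
        · have e1 : g⁻¹ * e y * g = MulAut.conj g⁻¹ (e y) := by simp
          rw [e1, MulEquiv.orderOf_eq, MulEquiv.orderOf_eq, hy]
        · have h2 : e t * e y = e y * e t := by rw [← map_mul, hty, map_mul]
          rw [← hg] at h2
          have h3 : g * ww * (g⁻¹ * e y) = e y * g * ww * g⁻¹ := by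
            calc g * ww * (g⁻¹ * e y) = g * ww * g⁻¹ * e y := by group
              _ = e y * (g * ww * g⁻¹) := h2
              _ = _ := by group
          calc g⁻¹ * e y * g * ww = g⁻¹ * (e y * g * ww * g⁻¹) * g := by group
            _ = g⁻¹ * (g * ww * (g⁻¹ * e y)) * g := by rw [h3]
            _ = ww * (g⁻¹ * e y * g) := by group
      have h2 := h1.conj g
      have e2 : g * (g⁻¹ * e y * g) * g⁻¹ = e y := by group
      rwa [e2] at h2

end Cfsg.Agent.H988.Car
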