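import Cfsg.Agent.H999.Ccp.Fi24
import Cfsg.Agent.H809.SylC
import Cfsg.Agent.H711.EvFiTF
import Cfsg.Agent.H988.Car.EvenTool

/-!
# S3852: the row `Fi24'` (helper988)
-/

set_option autoImplicit false

namespace Cfsg.Agent.H988.Car

open Subgroup Cfsg
open Cfsg.Agent.Solvable.Carter Cfsg.Agent.H18.Carter Cfsg.Agent.H381.Car
open Cfsg.Agent.H497.Stein
open Cfsg.Spor (Fi24)
open Cfsg.Agent.R08.FiTwentyFour (L finite_Fi24 mem_commutator_iff)
open Cfsg.Agent.KFacts.FiTF Cfsg.Agent.KFacts.FiTF.Defs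

universe u v

theorem two_of_equiv {T : Type v} [Group T] {T' : Type u} [Group T'] (e : T' ≃* T)
    (h : ∀ φ ψ : MulAut T, (∃ s : T, φ = MulAut.conj s) ∨ (∃ s : T, ψ = MulAut.conj s) ∨
      ∃ s : T, φ * ψ = MulAut.conj s) (φ ψ : MulAut T') : (∃ s : T', φ = MulAut.conj s) ∨
      (∃ s : T', ψ = MulAut.conj s) ∨ ∃ s : T', φ * ψ = MulAut.conj s := by
  have key : ∀ φ : MulAut T', (∃ s : T, MulAut.congr e φ = MulAut.conj s) → ∃ s : T', φ = MulAut.conj s := by
    rintro φ ⟨k, hk⟩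
    refine ⟨e.symm k, ?_⟩
    ext x
    apply e.injective
    have h1 := congrArg (fun f : MulAut T => f (e x)) hk
    have h2 : e (φ (e.symm (e x))) = k * e x * k⁻¹ := h1
    rw [e.symm_apply_apply] at h2
    rw [h2, MulAut.conj_apply, map_mul, map_mul, map_inv, e.apply_symm_apply]
  rcases h (MulAut.congr e φ) (MulAut.congr e ψ) with h1 | h1 | h1
  · exact Or.inl (key _ h1)
  · exact Or.inr (Or.inl (key _ h1))
  · rw [← map_mul] at h1
    exact Or.inr (Or.inr (key _ h1))

theorem two_fi24 (φ ψ : MulAut Spor.Fi24') : (∃ s : Spor.Fi24', φ = MulAut.conj s) ∨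
    (∃ s : Spor.Fi24', ψ = MulAut.conj s) ∨ ∃ s : Spor.Fi24', φ * ψ = MulAut.conj s := by
  obtain ⟨g, hg⟩ := exists_conj φ
  obtain ⟨k, hk⟩ := exists_conj ψ
  have key : ∀ (χ : MulAut Spor.Fi24') (m : Fi24), (∀ x : Spor.Fi24', (χ x : Fi24) = m * x * m⁻¹) →
      m ∈ commutator Fi24 → ∃ s : Spor.Fi24', χ = MulAut.conj s := fun χ m hm hmc =>
    ⟨⟨m, hmc⟩, MulEquiv.ext fun x => Subtype.ext (hm x)⟩
  by_cases h1 : g ∈ commutator Fi24
  · exact Or.inl (key _ g hg h1)
  by_cases h2 : k ∈ commutator Fi24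
  · exact Or.inr (Or.inl (key _ k hk h2))
  refine Or.inr (Or.inr (key _ (g * k) (fun x => ?_) ?_))
  · rw [MulAut.mul_apply, hg, hk]
    group
  · rw [mem_commutator_iff] at h1 h2 ⊢
    rw [map_mul, (Int.units_eq_one_or _).resolve_left h1, (Int.units_eq_one_or _).resolve_left h2]
    decide

theorem row_Fi24' {G : Type u} [Group G] [Finite G] {S : Subgroup G} [S.Normal] (hF : Fpf.{u}) (c : Ctx G S)
    (h : Spor.IsoFi24' ↥S) : TwoS S := by
  have : Fact (Nat.Prime 3) := ⟨Nat.prime_three⟩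
  have hfin : Finite Spor.Fi24' := Schreier.FiTwentyFour.finite
  have hself := Cfsg.Agent.H809.Syl.selfN_fi24 h
  obtain ⟨e⟩ := h
  have hcT : Nat.card Spor.Fi24' = 1255205709190661721292800 := Cfsg.Agent.R08.FiTwentyFour.isFi24'.2
  have hcard : Nat.card ↥S = 1255205709190661721292800 := by rw [Nat.card_congr e.toEquiv, hcT]
  refine two_of_even hF c (r := 3) ?_ (by norm_num) (selfN_eq hself) ?_ ?_ ?_
  · exact index_of_two c (two_of_equiv e two_fi24)
  · exact (Cfsg.Agent.H711.EvFiTF.evIn_fi24.congr e.symm)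
  · refine moved_of_dat c.simple hcard
      (l := [(2, 21), (3, 16), (5, 2), (7, 3), (11, 1), (13, 1), (17, 1), (23, 1), (29, 1)])
      (by decide +kernel) (by norm_num) (fun p => p ≠ 3) fun x hx hx2 hx3 hx4 => ?_
    simp only [List.mem_cons, List.not_mem_nil, or_false] at hx
    rcases hx with rfl | rfl | rfl | rfl | rfl | rfl | rfl | rfl | rfl
    · exact absurd rfl hx3
    · exact absurd rfl hx4
    · exact H999.Ccp.FiTF.moved_five.congr e
    · exact H999.Ccp.FiTF.moved_seven.congr e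
    all_goals exact absurd hx2 (by norm_num)
  · intro t y ht hy hty
    by_cases hd : ∃ d ∈ L, d * ((e y : Spor.Fi24') : Fi24) = ((e y : Spor.Fi24') : Fi24) * d
    · obtain ⟨d, hd, hdy⟩ := hd
      left
      exact MovedAt.of_equiv e (H999.Ccp.FiTF.movedAt_of_comm (by rw [MulEquiv.orderOf_eq, hy]) hd hdy)
    · right
      have hcon : ∀ d ∈ L, d * ((e y : Spor.Fi24') : Fi24) ≠ ((e y : Spor.Fi24') : Fi24) * d :=
        fun d hd' hdy => hd ⟨d, hd', hdy⟩
      have hy3 : ((e y : Spor.Fi24') : Fi24) ^ 3 = 1 := by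
        have h1 : (e y) ^ 3 = 1 := by rw [← map_pow, ← hy, pow_orderOf_eq_one, map_one]
        exact congrArg Subtype.val h1
      have ht2 : ((e t : Spor.Fi24') : Fi24) * ((e t : Spor.Fi24') : Fi24) = 1 := by
        have h1 : e t * e t = 1 := by rw [← map_mul, ← pow_two, ← ht, pow_orderOf_eq_one, map_one]
        exact congrArg Subtype.val h1
      have ht1 : ((e t : Spor.Fi24') : Fi24) ≠ 1 := by
        intro h1
        have h2 : e t = 1 := Subtype.ext h1
        rw [(map_eq_one_iff e e.injective).1 h2, orderOf_one] at ht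
        norm_num at ht
      have hc : ((e t : Spor.Fi24') : Fi24) * ((e y : Spor.Fi24') : Fi24) =
          ((e y : Spor.Fi24') : Fi24) * ((e t : Spor.Fi24') : Fi24) := by
        have h1 : e t * e y = e y * e t := by rw [← map_mul, hty, map_mul]
        exact congrArg Subtype.val h1
      obtain ⟨g, hg, hgz⟩ := Cfsg.Agent.LThreeFi24.EmptyTwo.invol_aux hy3 hcon (e t).2 ht2 ht1 hc
      have hz : (⟨g, hg⟩ : Spor.Fi24') * e t * (⟨g, hg⟩ : Spor.Fi24')⁻¹ = Abs.zK frame := Subtype.ext hgz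
      rw [index_cent e t, ← index_cent_conj (⟨g, hg⟩ : Spor.Fi24') (e t), hz]
      exact index_of_card (m := 160526499840) (k := 7819305288795) (by rw [hcT])
        Cfsg.Agent.PreUniq.FiTF.Z.card_CK_eq (by decide)

end Cfsg.Agent.H988.Car
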