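import Cfsg.Agent.H988.Car.RowMOf
import Cfsg.Agent.H310.MonC.Five
import Cfsg.Agent.H828.MonC.Seven

/-!
# S3852: the row of the Monster (helper988)
-/

set_option autoImplicit false

namespace Cfsg.Agent.H988.Car

open Subgroup Cfsg
open Cfsg.Agent.Solvable.Carter Cfsg.Agent.H18.Carter Cfsg.Agent.H381.Car
open Cfsg.Agent.H497.Stein

universe u

/-- **the row of the Monster** -/
theorem row_M {G : Type u} [Group G] [Finite G] {S : Subgroup G} [S.Normal] (hF : Fpf.{u}) (c : Ctx G S)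
    (h : Spor.IsoM ↥S) : TwoS S := by
  obtain ⟨f⟩ := Cfsg.Agent.MonsterP.Equiv.equiv
  exact row_M_of (fun y hy => H310.MonC.five hy) (fun y hy => Or.inl (H828.MonC.moved_M_seven ⟨f.symm⟩ y hy)) hF c h

end Cfsg.Agent.H988.Car
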