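import Cfsg.Agent.H988.Car.MEven
import Cfsg.Agent.H988.Car.MTwo
import Cfsg.Agent.H186.MonC.Eleven
import Cfsg.Agent.H186.MonC.Thirteen
import Cfsg.Agent.H711.EvMon
import Cfsg.Agent.MSevenT.Closed

/-!
# S3852: the row of the Monster from the elements of order 5 and 7 (helper988)
-/

set_option autoImplicit false
set_option maxRecDepth 100000
set_option linter.unusedSectionVars false

namespace Cfsg.Agent.H988.Car

open Subgroup Cfsg
open Cfsg.Agent.Solvable.Carter Cfsg.Agent.H18.Carter Cfsg.Agent.H381.Car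
open Cfsg.Agent.H497.Stein
open Cfsg.Agent.MonsterX Cfsg.Agent.MonsterX.InstData Cfsg.Agent.MonsterX.MainPack Cfsg.Agent.MonsterU
open Cfsg.Agent.MonsterP Cfsg.Agent.MonsterN Cfsg.Agent.PreUniqB
open Cfsg.Agent.CpAutBFive

universe u v

/-- elements of order 7 -/
theorem moved_seven_of (h7 : ∀ y : ↥InstData.M.G, orderOf y = 7 → MovedAt y ∨
    2 ∣ Nat.card ↥(centralizer ({y} : Set ↥InstData.M.G))) : Moved 7 ↥InstData.M.G := by
  have hfin : Finite ↥InstData.M.G := MFive.Row.finite_model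
  intro y hy
  rcases h7 y hy with h | h
  · exact h
  · exact H763.Ccp.BChart.movedAt_of_ex (LThreeMB.KChart.chart KDone.lft MFive.Row.hc) (by norm_num) (by decide)
      H859.Ccp.Co1.moved_seven (MSevenT.hex7 y hy h) hy

/-- elements of order 5 -/
theorem five_of (h5 : ∀ y : ↥InstData.M.G, orderOf y = 5 → MovedAt y ∨
    2 ∣ Nat.card ↥(centralizer ({y} : Set ↥InstData.M.G))) (y : ↥InstData.M.G) (hy : orderOf y = 5) :
    MovedAt y ∨ 2 ∣ Nat.card ↥(centralizer ({y} : Set ↥InstData.M.G)) ∧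
      ¬ 4 ∣ Nat.card ↥(centralizer ({y} : Set ↥InstData.M.G)) := by
  have hfin : Finite ↥InstData.M.G := MFive.Row.finite_model
  rcases h5 y hy with h | h
  · exact Or.inl h
  · rcases CpAutBFive.EvenRow.cases hy with h3 | h3
    · left
      exact H763.Ccp.BChart.movedAt_of_ex (LThreeMB.KChart.chart KDone.lft MFive.Row.hc) (by norm_num) (by decide)
        H859.Ccp.Co1.moved_five h3 hy
    · exact Or.inr ⟨h, h3⟩

/-- all automorphisms of `S` inner: `G = S` -/
theorem eq_top_of_inner {G : Type u} [Group G] [Finite G] {S : Subgroup G} [S.Normal] (c : Ctx G S)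
    (h : ∀ φ : MulAut ↥S, ∃ s : ↥S, φ = MulAut.conj s) : S = ⊤ := by
  rw [eq_top_iff]
  intro g _
  obtain ⟨s, hs⟩ := h (MulAut.conjNormal g)
  have h2 : (s : G)⁻¹ * g ∈ centralizer (S : Set G) := by
    intro x hx
    have h3 := congrArg (fun f : MulAut ↥S => ((f ⟨x, hx⟩ : ↥S) : G)) hs
    simp only [MulAut.conjNormal_apply, MulAut.conj_apply, Subgroup.coe_mul, InvMemClass.coe_inv] at h3
    have h4 : g * x * g⁻¹ = (s : G) * x * (s : G)⁻¹ := h3
    have h5 : (s : G)⁻¹ * (g * x * g⁻¹) = (s : G)⁻¹ * ((s : G) * x * (s : G)⁻¹) := by rw [h4]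
    calc x * ((s : G)⁻¹ * g) = (s : G)⁻¹ * ((s : G) * x * (s : G)⁻¹) * g := by group
      _ = (s : G)⁻¹ * (g * x * g⁻¹) * g := by rw [h5]
      _ = (s : G)⁻¹ * g * x := by group
  rw [c.cen, mem_bot] at h2
  have h3 : g = s := by
    have h4 := congrArg (fun y => (s : G) * y) h2
    simpa using h4
  rw [h3]
  exact s.2

variable {G : Type u} [Group G] [Finite G] {S : Subgroup G} [S.Normal]

/-- a central element of a Carter subgroup is not conjugate to another power -/
theorem false_of_movedAt (c : Ctx G S) {K : Subgroup G} (hK : IsCarter K) {y : G} (hyS : y ∈ S)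
    (hcy : K ≤ centralizer ({y} : Set G)) (h : MovedAt (⟨y, hyS⟩ : ↥S)) : False := by
  obtain ⟨g, hg, hg'⟩ := mem_of_movedAt h
  refine hg (Subtype.ext ?_)
  show (g : G) * y * (g : G)⁻¹ = y
  refine c.eq_of_conj hK hcy ?_
  obtain ⟨i, hi⟩ := hg'
  have hi' : y ^ i = (g : G) * y * (g : G)⁻¹ := congrArg Subtype.val hi
  intro k hk
  rw [← hi', mem_centralizer_singleton_iff]
  have h1 : k * y = y * k := mem_centralizer_singleton_iff.mp (hcy hk)
  exact (Commute.zpow_right h1 i : Commute k (y ^ i))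

/-- **The row of the Monster.** -/
theorem row_M_of (h5 : ∀ y : ↥InstData.M.G, orderOf y = 5 → MovedAt y ∨
      2 ∣ Nat.card ↥(centralizer ({y} : Set ↥InstData.M.G)))
    (h7 : ∀ y : ↥InstData.M.G, orderOf y = 7 → MovedAt y ∨ 2 ∣ Nat.card ↥(centralizer ({y} : Set ↥InstData.M.G)))
    (hF : Fpf.{u}) (c : Ctx G S) (h : Spor.IsoM ↥S) : TwoS S := by
  have hp2 : Fact (Nat.Prime 2) := ⟨Nat.prime_two⟩
  have hp3 : Fact (Nat.Prime 3) := ⟨Nat.prime_three⟩
  intro K hK
  rw [IsPGroup.iff_card]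
  refine ⟨_, Nat.eq_prime_pow_of_unique_prime_dvd Nat.card_pos.ne' ?_⟩
  intro q hq hd
  by_contra hne
  -- `|K ∩ S|` is odd
  have h2 : ¬ 2 ∣ Nat.card (K ⊓ S : Subgroup G) := fun h2 => not_dvd_even hF c h hK h2 hq hne hd
  obtain ⟨e⟩ := exists_model h
  obtain ⟨e0⟩ := id h
  have hST : S = ⊤ := eq_top_of_inner c (inner_of_equiv e0 CpAut.TwoInner.inner_m)
  have hKS : (K ⊓ S : Subgroup G) = K := by rw [hST, inf_top_eq]
  have hcard : Nat.card ↥S = 808017424794512875886459904961710757005754368000000000 := by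
    rw [Nat.card_congr e.toEquiv, Cfsg.Agent.MonsterP.EquivOf.isM_model.2]
  -- the centralisers
  have hcc : ∀ (y : G) (hyS : y ∈ S), Nat.card ↥(centralizer ({y} : Set G)) =
      Nat.card ↥(centralizer ({e ⟨y, hyS⟩} : Set ↥InstData.M.G)) := by
    intro y hyS
    let e2 : ↥S ≃* G :=
      { toFun := fun x => (x : G)
        invFun := fun x => ⟨x, hST ▸ mem_top x⟩
        left_inv := fun x => rfl
        right_inv := fun x => rfl
        map_mul' := fun x y => rfl }
    have h3 := Nat.card_congr (centEquiv (e2.symm.trans e) (t := y) (t' := e ⟨y, hyS⟩) rfl).toEquiv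
    exact h3
  have hna : ¬ ∀ a b : ↥S, a * b = b * a := c.na
  -- the primes other than 3
  have hodd : ∀ p : ℕ, p.Prime → p ∣ Nat.card (K ⊓ S : Subgroup G) → p = 3 := by
    intro p hp hdp
    by_contra hp3
    have hpp : Fact p.Prime := ⟨hp⟩
    have hpne : p ≠ 2 := by rintro rfl; exact h2 hdp
    by_cases hp5 : p = 5
    · subst hp5
      obtain ⟨y, hyS, hyK, hy, hcy⟩ := exists_central (S := S) hK.1 hdp
      have ho : orderOf (⟨y, hyS⟩ : ↥S) = 5 := by rw [Subgroup.orderOf_mk, hy]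
      rcases five_of h5 (e ⟨y, hyS⟩) (by rw [MulEquiv.orderOf_eq, ho]) with h3 | ⟨h3, h4⟩
      · exact false_of_movedAt c hK hyS hcy (MovedAt.of_equiv e h3)
      · rw [← hcc] at h3 h4
        refine false_of_two c hK (by rwa [hKS] at h2) ?_ hcy h3 h4
        rintro rfl
        rw [orderOf_one] at hy
        norm_num at hy
    · refine not_dvd_of_moved' c hp ?_ hK hdp
      refine moved_of_dat c.simple hcard (l := [(2, 46), (3, 20), (5, 9), (7, 6), (11, 2), (13, 3), (17, 1), (19, 1),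
        (23, 1), (29, 1), (31, 1), (41, 1), (47, 1), (59, 1), (71, 1)]) (by decide +kernel) (by norm_num)
        (fun p => p ≠ 3 ∧ p ≠ 5) (fun x hx hx2 hx3 hx4 => ?_) p hp hpne ⟨hp3, hp5⟩
      simp only [List.mem_cons, List.not_mem_nil, or_false] at hx
      rcases hx with rfl | rfl | rfl | rfl | rfl | rfl | rfl | rfl | rfl | rfl | rfl | rfl | rfl | rfl | rfl
      · exact absurd rfl hx3
      · exact absurd rfl hx4.1
      · exact absurd rfl hx4.2
      · exact Moved.congr e (moved_seven_of h7)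
      · exact Moved.congr e H186.MonC.moved_eleven
      · exact Moved.congr e H186.MonC.moved_thirteen
      all_goals exact absurd hx2 (by norm_num)
  -- a 3-group
  have hq3 := hodd q hq hd
  have hD : IsPGroup 3 (K ⊓ S : Subgroup G) := by
    rw [IsPGroup.iff_card]
    exact ⟨_, Nat.eq_prime_pow_of_unique_prime_dvd Nat.card_pos.ne' fun {p} hp hdp => hodd p hp hdp⟩
  obtain ⟨P, hP⟩ := odd_norm hF c (index_m c h) (by norm_num) hK hD
  have hev : ∃ (P : Sylow 3 ↥S) (t : ↥S), orderOf t = 2 ∧ t ∈ normalizer ((P : Subgroup ↥S) : Set ↥S) := by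
    have hf : Finite Spor.Monster := Finite.of_equiv ↥S e0.toEquiv
    exact H467.OddNorm.EvIn.congr e0.symm H711.EvMon.evIn_monster
  exact not_odd_of_evIn hev P hP

end Cfsg.Agent.H988.Car
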