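import Cfsg.Agent.H497.Stein.Th
import Cfsg.Agent.H457.Odd.RowTh
import Cfsg.Agent.H988.Car.Mov

/-!
# S3852: the row `Th` (helper988)
-/

set_option autoImplicit false

namespace Cfsg.Agent.H988.Car

open Subgroup Cfsg
open Cfsg.Agent.Solvable.Carter Cfsg.Agent.H18.Carter Cfsg.Agent.H381.Car
open Cfsg.Agent.H497.Stein

universe u

theorem row_Th {G : Type u} [Group G] [Finite G] {S : Subgroup G} [S.Normal] (hF : Fpf.{u}) (c : Ctx G S)
    (h : Spor.IsoTh ↥S) : TwoS S := by
  have : Fact (Nat.Prime 3) := ⟨Nat.prime_three⟩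
  have hev := Cfsg.Agent.H457.Odd.RowTh.th_three h
  obtain ⟨e⟩ := h
  have hcard : Nat.card ↥S = 90745943887872000 := by
    rw [Nat.card_congr e.toEquiv]
    exact Cfsg.Agent.H513.NilpTh.card
  refine two_of_pair hF c (r := 3) ?_ (by norm_num) hev ?_ ((Th.movedPair (Or.inl rfl)).congr e)
  · exact index_of_inner c (inner_of_equiv e Cfsg.Agent.KFacts.Th.Main.inner)
  · refine moved_of_dat c.simple hcard (l := [(2, 15), (3, 10), (5, 3), (7, 2), (13, 1), (19, 1), (31, 1)])
      (by decide +kernel) (by norm_num) (fun p => p ≠ 3) fun x hx hx2 hx3 hx4 => ?_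
    simp only [List.mem_cons, List.not_mem_nil, or_false] at hx
    rcases hx with rfl | rfl | rfl | rfl | rfl | rfl | rfl
    · exact absurd rfl hx3
    · exact absurd rfl hx4
    · exact Th.moved_five.congr e
    · exact Th.moved_seven.congr e
    all_goals exact absurd hx2 (by norm_num)

end Cfsg.Agent.H988.Car
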