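import Cfsg.Agent.H988.Car.RowsMat
import Cfsg.Agent.H988.Car.RowJ2
import Cfsg.Agent.H988.Car.RowJ3
import Cfsg.Agent.H988.Car.RowJ4
import Cfsg.Agent.H988.Car.RowHS
import Cfsg.Agent.H988.Car.RowMcL
import Cfsg.Agent.H988.Car.RowHe
import Cfsg.Agent.H988.Car.RowRu
import Cfsg.Agent.H988.Car.RowSuz
import Cfsg.Agent.H988.Car.RowON
import Cfsg.Agent.H988.Car.RowCo1
import Cfsg.Agent.H988.Car.RowCo2
import Cfsg.Agent.H988.Car.RowCo3
import Cfsg.Agent.H988.Car.RowFi22
import Cfsg.Agent.H988.Car.RowFi23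
import Cfsg.Agent.H988.Car.RowFi24
import Cfsg.Agent.H988.Car.RowHN
import Cfsg.Agent.H988.Car.RowLy
import Cfsg.Agent.H988.Car.RowTh
import Cfsg.Agent.H988.Car.RowB
import Cfsg.Agent.H988.Car.RowTits

/-!
# S3852: the sporadic rows (helper988)

`TwoS S` (`K ∩ S` is a `2`-group for all Carter subgroups `K`) for the sporadic groups; the Monster is a hypothesis.
-/

set_option autoImplicit false

namespace Cfsg.Agent.H988.Car

open Subgroup Cfsg
open Cfsg.Agent.Solvable.Carter Cfsg.Agent.H18.Carter Cfsg.Agent.H381.Car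

universe u

/-- **the sporadic rows**, without the Monster -/
theorem row_spor_of {G : Type u} [Group G] [Finite G] {S : Subgroup G} [S.Normal] (hF : Fpf.{u}) (c : Ctx G S)
    (hM : Spor.IsoM ↥S → TwoS S) (h : IsSporadicGroup ↥S) : TwoS S := by
  rcases h with h | h | h | h | h | h | h | h | h | h | h | h | h | h | h | h | h | h | h | h | h | h | h | h | h | h
  · exact row_M11 hF c h
  · exact row_M12 hF c h
  · exact row_M22 hF c h
  · exact row_M23 hF c h
  · exact row_M24 hF c h
  · exact row_J1 hF c h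
  · exact row_J2 hF c h
  · exact row_J3 hF c h
  · exact row_J4 hF c h
  · exact row_Co1 hF c h
  · exact row_Co2 hF c h
  · exact row_Co3 hF c h
  · exact row_McL hF c h
  · exact row_HS hF c h
  · exact row_Suz hF c h
  · exact row_He hF c h
  · exact row_Ru hF c h
  · exact row_ON hF c h
  · exact row_Ly hF c h
  · exact row_Fi22 hF c h
  · exact row_Fi23 hF c h
  · exact row_Fi24' hF c h
  · exact row_HN hF c h
  · exact row_Th hF c h
  · exact row_B hF c h
  · exact hM h

end Cfsg.Agent.H988.Car
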