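import Cfsg.Agent.H988.Car.SporAll
import Cfsg.Agent.H988.Car.RowM

/-!
# S3852: all sporadic rows (helper988)
-/

set_option autoImplicit false

namespace Cfsg.Agent.H988.Car

open Subgroup Cfsg
open Cfsg.Agent.Solvable.Carter Cfsg.Agent.H18.Carter Cfsg.Agent.H381.Car

universe u

/-- **the sporadic rows** -/
theorem row_spor {G : Type u} [Group G] [Finite G] {S : Subgroup G} [S.Normal] (hF : Fpf.{u}) (c : Ctx G S)
    (h : IsSporadicGroup ↥S) : TwoS S := row_spor_of hF c (row_M hF c) h

end Cfsg.Agent.H988.Car
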